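import Groth.Prelude.Def_CAlg
import Groth.Agent.LocCohBase.Depth
import Groth.Agent.LocCohBase.DepthLocal
import Groth.Agent.LocCohBase.CM
import Groth.Agent.Ega4Algebra1.SuppLoc
import Mathlib.Algebra.Module.FinitePresentation
import Mathlib.LinearAlgebra.Dual.Defs

/-!
# Depth of kernels, reflexive modules and Serre's conditions
-/

set_option autoImplicit false
universe u

open LocCoh

namespace Groth.DepthRefl

variable {A : Type u} [CommRing A] [IsNoetherianRing A] (I : Ideal A)

section Ker

variable {K E F : Type u} [AddCommGroup K] [Module A K] [Module.Finite A K] [AddCommGroup E]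
  [Module A E] [Module.Finite A E] [AddCommGroup F] [Module A F] [Module.Finite A F]
  {f : K →ₗ[A] E} {g : E →ₗ[A] F}

theorem one_le_depth_of_injective (hf : Function.Injective f) (h : 1 ≤ idealDepth I E) :
    1 ≤ idealDepth I K := by
  have := (Groth.LocCohBase.idealDepth_shortExact I f (LinearMap.range f).mkQ hf
    (Submodule.mkQ_surjective _)
    (LinearMap.exact_iff.mpr (Submodule.ker_mkQ _))).2.2
  exact le_trans (le_min h le_add_self) this

theorem two_le_depth_of_exact (hf : Function.Injective f) (hfg : Function.Exact f g)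
    (h : 2 ≤ idealDepth I E) (h' : 1 ≤ idealDepth I F) : 2 ≤ idealDepth I K := by
  have h1 : 1 ≤ idealDepth I (LinearMap.range g) :=
    one_le_depth_of_injective I (f := (LinearMap.range g).subtype) Subtype.val_injective h'
  have := (Groth.LocCohBase.idealDepth_shortExact I f g.rangeRestrict hf g.surjective_rangeRestrict
    (fun y => (Iff.of_eq (Subtype.ext_iff.trans Iff.rfl).eq).trans (hfg y))).2.2
  refine le_trans (le_min h ?_) this
  calc (2 : ℕ∞) = 1 + 1 := (one_add_one_eq_two).symm
    _ ≤ _ := by gcongr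

end Ker

omit [IsNoetherianRing A] in
theorem depth_eq_top_of_subsingleton (M : Type u) [AddCommGroup M] [Module A M] [Subsingleton M] :
    idealDepth I M = ⊤ :=
  Groth.LocCohBase.idealDepth_eq_top_of_smul_top_eq_top (Subsingleton.elim _ _)

theorem le_depth_pi (n : ℕ) : idealDepth I A ≤ idealDepth I (Fin n → A) := by
  induction n with
  | zero => rw [depth_eq_top_of_subsingleton I (Fin 0 → A)]; exact le_top
  | succ n ih =>
    rw [← Groth.LocCohBase.idealDepth_congr (I := I) (Fin.consLinearEquiv A fun _ : Fin (n + 1) => A)]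
    have := (Groth.LocCohBase.idealDepth_shortExact I (LinearMap.inl A A (Fin n → A))
      (LinearMap.snd A A (Fin n → A)) LinearMap.inl_injective (fun y => ⟨(0, y), rfl⟩)
      Function.Exact.inl_snd).1
    exact le_trans (le_min le_rfl ih) this

theorem le_depth_dual_pi (n : ℕ) : idealDepth I A ≤ idealDepth I (Module.Dual A (Fin n → A)) := by
  rw [← Groth.LocCohBase.idealDepth_congr (I := I) (Pi.basisFun A (Fin n)).toDualEquiv]
  exact le_depth_pi I n

/-- A finite reflexive module is a kernel between finite free modules, the target nonzero. -/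
theorem exists_presentation (G : Type u) [AddCommGroup G] [Module A G] [Module.Finite A G]
    [Module.IsReflexive A G] :
    ∃ (n m : ℕ) (f : G →ₗ[A] Module.Dual A (Fin n → A))
      (g : Module.Dual A (Fin n → A) →ₗ[A] Module.Dual A (Fin (m + 1) → A)),
      Function.Injective f ∧ Function.Exact f g := by
  obtain ⟨n, s, hs⟩ := Module.Finite.exists_fin' A (Module.Dual A G)
  obtain ⟨m, t, ht⟩ := Module.Finite.exists_fin' A (LinearMap.ker s)
  let t' : (Fin (m + 1) → A) →ₗ[A] (Fin n → A) :=
    (LinearMap.ker s).subtype ∘ₗ t ∘ₗ LinearMap.funLeft A A Fin.succ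
  have hsurj : Function.Surjective (LinearMap.funLeft A A (Fin.succ : Fin m → Fin (m + 1))) :=
    LinearMap.funLeft_surjective_of_injective A A _ (Fin.succ_injective m)
  have hr : LinearMap.range t' = LinearMap.ker s := by
    rw [LinearMap.range_comp, LinearMap.range_eq_top.mpr
      (show Function.Surjective (t ∘ₗ LinearMap.funLeft A A Fin.succ) from ht.comp hsurj), Submodule.map_top,
      Submodule.range_subtype]
  refine ⟨n, m, s.dualMap ∘ₗ Module.Dual.eval A G, t'.dualMap, ?_, fun φ => ⟨fun hφ => ?_, ?_⟩⟩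
  · exact (LinearMap.dualMap_injective_of_surjective hs).comp (Module.bijective_dual_eval A G).1
  · have hker : LinearMap.ker s ≤ LinearMap.ker φ := by
      rw [← hr]
      rintro _ ⟨w, rfl⟩
      exact LinearMap.congr_fun hφ w
    let Y : Module.Dual A (Module.Dual A G) :=
      (LinearMap.ker s).liftQ φ hker ∘ₗ (s.quotKerEquivOfSurjective hs).symm.toLinearMap
    obtain ⟨x, hx⟩ := (Module.bijective_dual_eval A G).2 Y
    refine ⟨x, LinearMap.ext fun v => ?_⟩
    show Module.Dual.eval A G x (s v) = φ v
    rw [hx]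
    show (LinearMap.ker s).liftQ φ hker ((s.quotKerEquivOfSurjective hs).symm (s v)) = φ v
    rw [← LinearMap.quotKerEquivOfSurjective_apply_mk s hs v, LinearEquiv.symm_apply_apply]
    rfl
  · rintro ⟨x, rfl⟩
    refine LinearMap.ext fun w => ?_
    have : t' w ∈ LinearMap.ker s := hr ▸ LinearMap.mem_range_self t' w
    show Module.Dual.eval A G x (s (t' w)) = 0
    rw [LinearMap.mem_ker.mp this, map_zero]

theorem depth_of_reflexive (G : Type u) [AddCommGroup G] [Module A G] [Module.Finite A G]
    [Module.IsReflexive A G] :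
    (1 ≤ idealDepth I A → 1 ≤ idealDepth I G) ∧ (2 ≤ idealDepth I A → 2 ≤ idealDepth I G) := by
  obtain ⟨n, m, f, g, hf, hfg⟩ := exists_presentation (A := A) G
  refine ⟨fun h => one_le_depth_of_injective I hf (h.trans (le_depth_dual_pi I n)),
    fun h => two_le_depth_of_exact I hf hfg (h.trans (le_depth_dual_pi I n)) ?_⟩
  exact le_trans (le_trans one_le_two h) (le_depth_dual_pi I _)

/-- A module supported on `V(I)` of positive `I`-depth vanishes. -/
theorem eq_zero_of_killed {M : Type u} [AddCommGroup M] [Module A M] [Module.Finite A M]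
    (h : 1 ≤ idealDepth I M) (m : M)
    (hm : ∀ p : PrimeSpectrum A, ¬ I ≤ p.asIdeal → ∃ t ∉ p.asIdeal, t • m = 0) : m = 0 := by
  obtain ⟨x, hxI, hreg⟩ : ∃ x ∈ I, IsSMulRegular M x := by
    by_cases hIM : I • (⊤ : Submodule A M) = ⊤
    · obtain ⟨r, hr, hr'⟩ := Submodule.exists_mem_and_smul_eq_self_of_fg_of_le_smul I ⊤
        Module.Finite.fg_top hIM.ge
      exact ⟨r, hr, fun a b hab => by simpa [hr' a trivial, hr' b trivial] using hab⟩
    · exact Groth.LocCohBase.exists_regular_of_one_le hIM h
  let J : Ideal A := LinearMap.ker (LinearMap.toSpanSingleton A M m)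
  have hrad : x ∈ J.radical := by
    rw [Ideal.radical_eq_sInf, Submodule.mem_sInf]
    rintro P ⟨hP, hPp⟩
    by_contra hx
    obtain ⟨t, ht, ht0⟩ := hm ⟨P, hPp⟩ (fun hle => hx (hle hxI))
    exact ht (hP (show t ∈ J by simpa [J] using ht0))
  obtain ⟨k, hk⟩ := hrad
  refine (hreg.pow k) ?_
  simpa [J] using hk

theorem exists_kill (G : Type u) [AddCommGroup G] [Module A G] [Module.Finite A G] (p : Ideal A)
    [p.IsPrime] (hp : Module.IsReflexive (Localization.AtPrime p) (LocalizedModule p.primeCompl G)) :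
    (∀ m : G, Module.Dual.eval A G m = 0 → ∃ t ∉ p, t • m = 0) ∧
      ∀ y : Module.Dual A (Module.Dual A G), ∃ t ∉ p, t • y ∈ LinearMap.range (Module.Dual.eval A G) := by
  have : Module.FinitePresentation A G := Module.finitePresentation_of_finite A G
  let S := p.primeCompl
  let Rp := Localization.AtPrime p
  let Gp := LocalizedModule S G
  let mk := LocalizedModule.mkLinearMap S G
  let al := Algebra.linearMap A Rp
  let fD : Module.Dual A G →ₗ[A] Module.Dual Rp Gp := IsLocalizedModule.mapExtendScalars S mk al Rp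
  have hfD : ∀ φ m, fD φ (mk m) = algebraMap A Rp (φ m) := fun φ m =>
    IsLocalizedModule.map_apply S mk al φ m
  have hbij := hp.bijective_dual_eval'
  refine ⟨fun m hm => ?_, fun y => ?_⟩
  · have h0 : Module.Dual.eval Rp Gp (mk m) = 0 := LinearMap.ext fun ψ => by
      obtain ⟨⟨φ, s⟩, hψ⟩ := IsLocalizedModule.surj S fD ψ
      have h1 := LinearMap.congr_fun hψ (mk m)
      rw [hfD, show φ m = 0 from LinearMap.congr_fun hm φ, map_zero] at h1
      rw [Submonoid.smul_def, LinearMap.smul_apply, Algebra.smul_def] at h1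
      show ψ (mk m) = 0
      exact (IsLocalization.map_units Rp s).mul_right_eq_zero.mp h1
    have h1 : mk m = 0 := hbij.1 (by rw [h0, map_zero])
    obtain ⟨t, ht⟩ := (IsLocalizedModule.eq_zero_iff S mk).mp h1
    exact ⟨t.1, t.2, ht⟩
  · let Y : Module.Dual Rp Gp →ₗ[Rp] Rp := IsLocalizedModule.mapExtendScalars S fD al Rp y
    have hY : ∀ φ, Y (fD φ) = algebraMap A Rp (y φ) := fun φ =>
      IsLocalizedModule.map_apply S fD al y φ
    obtain ⟨v, hv⟩ := hbij.2 Y
    obtain ⟨⟨m, s⟩, hms⟩ := IsLocalizedModule.surj S mk v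
    let z : Module.Dual A (Module.Dual A G) := (s : A) • y - Module.Dual.eval A G m
    have hz : ∀ φ, algebraMap A Rp (z φ) = 0 := fun φ => by
      have h1 : Y (fD φ) = fD φ v := (LinearMap.congr_fun hv (fD φ)).symm
      rw [hY] at h1
      have h2 : fD φ (mk m) = (s : A) • fD φ v := by
        rw [← hms, Submonoid.smul_def, LinearMap.map_smul_of_tower]
      rw [hfD, Algebra.smul_def, ← h1, ← map_mul] at h2
      simp only [z, LinearMap.sub_apply, LinearMap.smul_apply, smul_eq_mul, map_sub]
      rw [← h2, Module.Dual.eval_apply, sub_self]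
    have : Module.Finite A (Module.Dual A G) := inferInstance
    obtain ⟨T, hT⟩ := this.fg_top
    have hk : ∀ φ, ∃ t : S, (t : A) * z φ = 0 := fun φ =>
      (IsLocalization.map_eq_zero_iff S Rp _).mp (hz φ)
    choose t ht using hk
    have hzero : ((∏ φ ∈ T, (t φ : A))) • z = 0 := LinearMap.ext_on hT fun φ hφ => by
      classical
      rw [LinearMap.smul_apply, ← Finset.prod_erase_mul T _ hφ, smul_eq_mul, mul_assoc, ht, mul_zero]
      rfl
    refine ⟨(∏ φ ∈ T, (t φ : A)) * s, (inferInstance : p.IsPrime).mem_or_mem.mt ?_, ?_⟩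
    · rintro (h | h)
      · obtain ⟨φ, -, hφ⟩ := (Ideal.IsPrime.prod_mem_iff).mp h
        exact (t φ).2 hφ
      · exact s.2 h
    · refine ⟨(∏ φ ∈ T, (t φ : A)) • m, ?_⟩
      rw [map_smul, mul_smul, eq_comm, ← sub_eq_zero]
      refine Eq.trans ?_ hzero
      exact (smul_sub _ _ _).symm

end Groth.DepthRefl
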