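import Groth.Agent.DepthRefl.Basic

/-!
# Reflexivity from depth, and Serre's conditions for kernels
-/

set_option autoImplicit false
universe u

open LocCoh

namespace Groth.DepthRefl

variable {A : Type u} [CommRing A] [IsNoetherianRing A]

theorem isReflexive_of_depth (I : Ideal A) (hA : 1 ≤ idealDepth I A) (G : Type u) [AddCommGroup G]
    [Module A G] [Module.Finite A G]
    (hU : ∀ p : PrimeSpectrum A, ¬ I ≤ p.asIdeal →
      Module.IsReflexive (Localization.AtPrime p.asIdeal) (LocalizedModule p.asIdeal.primeCompl G))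
    (hG : 2 ≤ idealDepth I G) : Module.IsReflexive A G := by
  let η := Module.Dual.eval A G
  have hG1 : (1 : ℕ∞) ≤ idealDepth I G := le_trans one_le_two hG
  have hinj : Function.Injective η := (injective_iff_map_eq_zero _).mpr fun m hm =>
    eq_zero_of_killed I hG1 m fun p hp => (exists_kill G p.asIdeal (hU p hp)).1 m hm
  have hdd : 1 ≤ idealDepth I (Module.Dual A (Module.Dual A G)) := by
    obtain ⟨n, s, hs⟩ := Module.Finite.exists_fin' A (Module.Dual A G)
    exact one_le_depth_of_injective I (LinearMap.dualMap_injective_of_surjective hs)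
      (hA.trans (le_depth_dual_pi I n))
  have h2 := (Groth.LocCohBase.idealDepth_shortExact I η (LinearMap.range η).mkQ hinj
    (Submodule.mkQ_surjective _) (LinearMap.exact_iff.mpr (Submodule.ker_mkQ _))).2.1
  have hC : 1 ≤ idealDepth I (Module.Dual A (Module.Dual A G) ⧸ LinearMap.range η) := by
    refine le_trans (le_min hdd ?_) h2
    revert hG
    cases idealDepth I G with
    | top => simp
    | coe a => intro hG; norm_cast at hG ⊢; omega
  refine ⟨⟨hinj, fun y => ?_⟩⟩
  have := eq_zero_of_killed I hC (Submodule.Quotient.mk y) fun p hp => by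
    obtain ⟨t, ht, hty⟩ := (exists_kill G p.asIdeal (hU p hp)).2 y
    exact ⟨t, ht, by rw [← Submodule.Quotient.mk_smul, Submodule.Quotient.mk_eq_zero]; exact hty⟩
  rwa [Submodule.Quotient.mk_eq_zero] at this

theorem le_idealDepth_of_hasSk (k : ℕ) (M : Type u) [AddCommGroup M] [Module A M] [Module.Finite A M]
    (I : Ideal A) (hS : HasSk k A M)
    (hcodim : ∀ p : PrimeSpectrum A, I ≤ p.asIdeal → p ∈ Module.support A M →
      (k : WithBot ℕ∞) ≤ Module.supportDim (Localization.AtPrime p.asIdeal) (LocalizedModule p.asIdeal.primeCompl M)) :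
    (k : ℕ∞) ≤ idealDepth I M := by
  rw [Groth.LocCohBase.idealDepth_eq_iInf_depth]
  refine le_iInf₂ fun p hp => ?_
  by_cases hs : p ∈ Module.support A M
  · have h := hS p.asIdeal
    rw [min_eq_left (hcodim p hp hs)] at h
    exact_mod_cast h
  · have : Subsingleton (LocalizedModule p.asIdeal.primeCompl M) := Module.notMem_support_iff.mp hs
    rw [LocCoh.depth, depth_eq_top_of_subsingleton]
    exact le_top

omit [IsNoetherianRing A] in
theorem supportDim_localized_mono {M N : Type u} [AddCommGroup M] [Module A M] [AddCommGroup N]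
    [Module A N] (h : Module.support A M ⊆ Module.support A N) (p : Ideal A) [p.IsPrime] :
    Module.supportDim (Localization.AtPrime p) (LocalizedModule p.primeCompl M) ≤
      Module.supportDim (Localization.AtPrime p) (LocalizedModule p.primeCompl N) := by
  rw [Groth.Ega4Algebra1.supportDim_localizedModule_atPrime,
    Groth.Ega4Algebra1.supportDim_localizedModule_atPrime]
  exact Order.krullDim_le_of_strictMono (fun a => ⟨a.1, h a.2.1, a.2.2⟩) (fun _ _ h => h)

theorem natCast_le_coe {k : ℕ} {a : ℕ∞} : (k : WithBot ℕ∞) ≤ (a : WithBot ℕ∞) ↔ (k : ℕ∞) ≤ a := by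
  rw [show (k : WithBot ℕ∞) = ((k : ℕ∞) : WithBot ℕ∞) from rfl, WithBot.coe_le_coe]

theorem le_natCast_of_not_succ_le {d : WithBot ℕ∞} {k : ℕ} (h : ¬ ((k + 1 : ℕ) : WithBot ℕ∞) ≤ d) :
    d ≤ (k : WithBot ℕ∞) := by
  induction d using WithBot.recBotCoe with
  | bot => exact bot_le
  | coe a =>
    rw [natCast_le_coe, not_le] at h
    rw [show (k : WithBot ℕ∞) = ((k : ℕ∞) : WithBot ℕ∞) from rfl, WithBot.coe_le_coe]
    exact (ENat.lt_add_one_iff (ENat.natCast_ne_top k)).mp (by rwa [Nat.cast_succ] at h)

theorem hasSk_ker {K E F : Type u} [AddCommGroup K] [Module A K] [Module.Finite A K] [AddCommGroup E]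
    [Module A E] [Module.Finite A E] [AddCommGroup F] [Module A F] [Module.Finite A F]
    (f : K →ₗ[A] E) (g : E →ₗ[A] F) (hf : Function.Injective f) (hfg : Function.Exact f g) :
    (HasSk 1 A E → HasSk 1 A K) ∧
      (Module.support A K ⊆ Module.support A F → HasSk 1 A F → HasSk 2 A E → HasSk 2 A K) := by
  have hsub : Module.support A K ⊆ Module.support A E := Module.support_subset_of_injective f hf
  refine ⟨fun h p _ => ?_, fun hKF hF hE p _ => ?_⟩
  all_goals
    set fp := LocalizedModule.map p.primeCompl f
    set gp := LocalizedModule.map p.primeCompl g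
    have hfp : Function.Injective fp := LocalizedModule.map_injective _ f hf
    have hfgp : Function.Exact fp gp := LocalizedModule.map_exact _ f g hfg
    have hKE := supportDim_localized_mono hsub p
  · by_cases h1 : ((1 : ℕ) : WithBot ℕ∞) ≤ Module.supportDim (Localization.AtPrime p) (LocalizedModule p.primeCompl K)
    · have hE1 := h p
      rw [min_eq_left (h1.trans hKE), natCast_le_coe, Nat.cast_one] at hE1
      have h3 := one_le_depth_of_injective (IsLocalRing.maximalIdeal (Localization.AtPrime p)) hfp hE1
      exact le_trans (min_le_left _ _) (natCast_le_coe.mpr (by rw [Nat.cast_one]; exact h3))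
    · exact (min_le_right _ _).trans ((le_natCast_of_not_succ_le (k := 0) h1).trans
        (natCast_le_coe.mpr (by rw [Nat.cast_zero]; exact bot_le)))
  · have hKF' := supportDim_localized_mono hKF p
    have h12 : ((1 : ℕ) : WithBot ℕ∞) ≤ ((2 : ℕ) : WithBot ℕ∞) := Nat.cast_le.mpr one_le_two
    by_cases h2 : ((2 : ℕ) : WithBot ℕ∞) ≤ Module.supportDim (Localization.AtPrime p) (LocalizedModule p.primeCompl K)
    · have hE2 := hE p
      have hF1 := hF p
      rw [min_eq_left (h2.trans hKE), natCast_le_coe] at hE2
      rw [min_eq_left (h12.trans (h2.trans hKF')), natCast_le_coe, Nat.cast_one] at hF1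
      have h3 := two_le_depth_of_exact (IsLocalRing.maximalIdeal (Localization.AtPrime p)) hfp hfgp
        (by exact_mod_cast hE2) hF1
      exact le_trans (min_le_left _ _) (natCast_le_coe.mpr (by exact_mod_cast h3))
    · refine (min_le_right _ _).trans ?_
      by_cases h1 : ((1 : ℕ) : WithBot ℕ∞) ≤ Module.supportDim (Localization.AtPrime p) (LocalizedModule p.primeCompl K)
      · have hE2 := le_trans (le_min h12 (h1.trans hKE)) (hE p)
        rw [natCast_le_coe, Nat.cast_one] at hE2
        have h3 := one_le_depth_of_injective (IsLocalRing.maximalIdeal (Localization.AtPrime p)) hfp hE2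
        exact (le_natCast_of_not_succ_le (k := 1) h2).trans
          (natCast_le_coe.mpr (by rw [Nat.cast_one]; exact h3))
      · exact (le_natCast_of_not_succ_le (k := 0) h1).trans
          (natCast_le_coe.mpr (by rw [Nat.cast_zero]; exact bot_le))

theorem le_depth_localized_pi (p : Ideal A) [p.IsPrime] (n : ℕ) :
    LocCoh.depth (Localization.AtPrime p) (LocalizedModule p.primeCompl A) ≤
      LocCoh.depth (Localization.AtPrime p) (LocalizedModule p.primeCompl (Fin n → A)) := by
  induction n with
  | zero =>
    have : Subsingleton (LocalizedModule p.primeCompl (Fin 0 → A)) := inferInstance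
    simp only [LocCoh.depth, depth_eq_top_of_subsingleton _ (LocalizedModule p.primeCompl (Fin 0 → A))]
    exact le_top
  | succ n ih =>
    let e := Fin.consLinearEquiv A fun _ : Fin (n + 1) => A
    let i : A →ₗ[A] (Fin (n + 1) → A) := e.toLinearMap ∘ₗ LinearMap.inl A A (Fin n → A)
    let q : (Fin (n + 1) → A) →ₗ[A] (Fin n → A) := LinearMap.snd A A (Fin n → A) ∘ₗ e.symm.toLinearMap
    have hi : Function.Injective i := e.injective.comp LinearMap.inl_injective
    have hq : Function.Surjective q := fun y => ⟨e (0, y), by simp [q]⟩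
    have hiq : Function.Exact i q := fun y => by
      obtain ⟨x, rfl⟩ := e.surjective y
      show LinearMap.snd A A (Fin n → A) (e.symm (e x)) = 0 ↔ _
      rw [e.symm_apply_apply, Function.Exact.inl_snd (R := A) (M := A) (N := Fin n → A) x]
      exact ⟨fun ⟨a, ha⟩ => ⟨a, by rw [← ha]; rfl⟩, fun ⟨a, ha⟩ => ⟨a, e.injective ha⟩⟩
    exact le_trans (le_min le_rfl ih) (Groth.LocCohBase.idealDepth_shortExact
      (IsLocalRing.maximalIdeal (Localization.AtPrime p))
      (LocalizedModule.map p.primeCompl i) (LocalizedModule.map p.primeCompl q)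
      (LocalizedModule.map_injective _ i hi) (LocalizedModule.map_surjective _ q hq)
      (LocalizedModule.map_exact _ i q hiq)).1

theorem hasSk_of_linearEquiv_pi (k : ℕ) (hA : HasSk k A A) (n : ℕ) :
    HasSk k A (Module.Dual A (Fin n → A)) := by
  intro p _
  let b : (Fin n → A) ≃ₗ[A] Module.Dual A (Fin n → A) := (Pi.basisFun A (Fin n)).toDualEquiv
  let e : LocalizedModule p.primeCompl (Fin n → A) →ₗ[Localization.AtPrime p]
      LocalizedModule p.primeCompl (Module.Dual A (Fin n → A)) :=
    LocalizedModule.map p.primeCompl b.toLinearMap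
  let e' := LinearEquiv.ofBijective e
    ⟨LocalizedModule.map_injective _ _ b.injective, LocalizedModule.map_surjective _ _ b.surjective⟩
  rw [LocCoh.depth, ← Groth.LocCohBase.idealDepth_congr e', ← Module.supportDim_eq_of_equiv e']
  refine le_trans (min_le_min le_rfl ?_) ((hA p).trans (WithBot.coe_le_coe.mpr (le_depth_localized_pi p n)))
  refine supportDim_localized_mono ?_ p
  intro P _
  refine Module.mem_support_iff'.mpr ⟨1, fun r hr h0 => ?_⟩
  rw [smul_eq_mul, mul_one] at h0
  exact hr (h0 ▸ zero_mem _)

theorem hasSk_of_reflexive (G : Type u) [AddCommGroup G] [Module A G] [Module.Finite A G]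
    [Module.IsReflexive A G] :
    (HasSk 1 A A → HasSk 1 A G) ∧ (HasSk 2 A A → HasSk 2 A G) := by
  obtain ⟨n, m, f, g, hf, hfg⟩ := exists_presentation (A := A) G
  have h := hasSk_ker f g hf hfg
  refine ⟨fun hA => h.1 (hasSk_of_linearEquiv_pi 1 hA n),
    fun hA => h.2 ?_ (fun p _ => ?_) (hasSk_of_linearEquiv_pi 2 hA n)⟩
  · let e₁ : (Fin (m + 1) → A) ≃ₗ[A] Module.Dual A (Fin (m + 1) → A) := (Pi.basisFun A (Fin (m + 1))).toDualEquiv
    rw [← e₁.support_eq]
    intro P _
    refine Module.mem_support_iff'.mpr ⟨fun _ => 1, fun r hr h0 => ?_⟩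
    have := congrFun h0 0
    simp only [Pi.smul_apply, smul_eq_mul, mul_one, Pi.zero_apply] at this
    exact hr (this ▸ zero_mem _)
  · exact le_trans (min_le_min (by exact_mod_cast one_le_two) le_rfl) ((hasSk_of_linearEquiv_pi 2 hA (m + 1)) p)

end Groth.DepthRefl
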